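import Groth.Prelude.Def_Pi1
import Groth.Agent.Lib.Family25.Basic
import Groth.Agent.Lib.Product25.Main
import Groth.Agent.Lib.FEtEq25.Points

/-!
Simply connected schemes: every connected finite étale cover is trivial
-/

set_option autoImplicit false
set_option linter.style.haveILetI false
set_option backward.isDefEq.respectTransparency false

universe u

open CategoryTheory CategoryTheory.Limits AlgebraicGeometry TopologicalSpace

noncomputable section

namespace Groth.Agent.SimplyConn25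

/-- Every connected finite étale cover is trivial. -/
def SC (X : Scheme.{u}) : Prop := ∀ W : FEt.Cat X, ConnectedSpace W.left → IsIso W.hom

/-- A cover of a simply connected scheme has a section through every geometric point of a fibre. -/
theorem exists_section_of_SC {X : Scheme.{u}} [IsLocallyNoetherian X] (hX : SC X) (W : FEt.Cat X)
    {Ω : Type u} [Field Ω] [IsAlgClosed Ω] (ξ : Spec (CommRingCat.of Ω) ⟶ X)
    (q : FEt.fiberObj ξ W) : ∃ σ : X ⟶ W.left, σ ≫ W.hom = 𝟙 X ∧ ξ ≫ σ = q.1 := by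
  obtain ⟨C, hC, ι, q', hq', -⟩ := Family25.exists_component ξ W q
  haveI := hX C hC
  refine ⟨inv C.hom ≫ ι.left, ?_, ?_⟩
  · rw [Category.assoc, FEtEq25.w ι, IsIso.inv_hom_id]
  · have h1 : q'.1 = ξ ≫ inv C.hom := by
      rw [IsIso.eq_comp_inv]; exact q'.2
    have h2 : q'.1 ≫ ι.left = q.1 := congrArg Subtype.val hq'
    rw [← h2, h1, Category.assoc]

/-- A cover of a connected scheme with sections through all points of one geometric fibre is split. -/
theorem isSplit_of_sections {X : Scheme.{u}} [ConnectedSpace X] (W : FEt.Cat X)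
    {Ω : Type u} [Field Ω] [IsAlgClosed Ω] (ξ : Spec (CommRingCat.of Ω) ⟶ X)
    (h : ∀ q : FEt.fiberObj ξ W, ∃ σ : X ⟶ W.left, σ ≫ W.hom = 𝟙 X ∧ ξ ≫ σ = q.1) :
    Pi1.IsSplit W := by
  choose σ hσ hξσ using h
  let g : W.left ⟶ X := W.hom
  haveI : IsFinite g := W.prop.1
  haveI : Etale g := W.prop.2
  haveI : Finite (FEt.fiberObj ξ W) := FEtEq25.finite_fiberObj ξ W
  haveI : ∀ q, IsOpenImmersion (σ q) := fun q => IsQuot25.isOpenImmersion_section g (σ q) (hσ q)
  have hclosed : ∀ q, IsClosed (Set.range (σ q)) := fun q => by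
    haveI : IsClosedImmersion (σ q) := by
      haveI : IsClosedImmersion (σ q ≫ g) := by rw [hσ q]; infer_instance
      exact IsClosedImmersion.of_comp (σ q) g
    exact (σ q).isClosedEmbedding.isClosed_range
  have hclopen : ∀ q, IsClopen (Set.range (σ q)) := fun q =>
    ⟨hclosed q, (σ q).isOpenEmbedding.isOpen_range⟩
  have hinj : ∀ q q' : FEt.fiberObj ξ W, (Set.range (σ q) ∩ Set.range (σ q')).Nonempty → q = q' := by
    rintro q q' ⟨w, ⟨a, ha⟩, hw⟩
    have huniv := ((hclopen q').preimage (σ q).continuous).eq_univ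
      ⟨a, show σ q a ∈ Set.range (σ q') by rw [ha]; exact hw⟩
    have hsub : Set.range (σ q) ⊆ Set.range (σ q') := by
      rintro _ ⟨x, rfl⟩
      exact (Set.eq_univ_iff_forall.1 huniv x :)
    have h1 := IsOpenImmersion.lift_fac (σ q') (σ q) hsub
    have h2 : IsOpenImmersion.lift (σ q') (σ q) hsub = 𝟙 X := by
      have h3 := congrArg (· ≫ W.hom) h1
      simp only [Category.assoc] at h3
      rw [hσ q] at h3
      exact (Category.comp_id _).symm.trans ((congrArg (_ ≫ ·) (hσ q').symm).trans h3)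
    rw [h2, Category.id_comp] at h1
    exact Subtype.ext (by rw [← hξσ q, ← hξσ q', h1])
  haveI : IsOpenImmersion (Sigma.desc σ) := isOpenImmersion_sigmaDesc _ σ (fun q q' hqq' =>
    Set.disjoint_iff_inter_eq_empty.2 (Set.not_nonempty_iff_eq_empty.1 fun h => hqq' (hinj q q' h)))
  haveI : Surjective (Sigma.desc σ) := by
    refine ⟨fun w => ?_⟩
    by_contra hw
    let R : Set W.left := (⋃ q, Set.range (σ q))ᶜ
    have hR : IsClopen R := (isClopen_iUnion_of_finite hclopen).compl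
    have hwR : w ∈ R := by
      rintro ⟨_, ⟨q, rfl⟩, a, ha⟩
      refine hw ⟨Sigma.ι (fun _ : FEt.fiberObj ξ W => X) q a, ?_⟩
      rw [← Scheme.Hom.comp_apply, Sigma.ι_desc, ha]
    have himg := (FEtEq25.isClopen_image g hR).eq_univ ⟨g w, w, hwR, rfl⟩
    obtain ⟨z, hzR, hz⟩ := Set.eq_univ_iff_forall.1 himg (ξ (IsLocalRing.closedPoint Ω))
    obtain ⟨s, hs, hsz⟩ := FEtEq25.exists_fiber_point ξ g z hz
    refine hzR (Set.mem_iUnion.2 ⟨⟨s, hs⟩, ξ (IsLocalRing.closedPoint Ω), ?_⟩)
    rw [← Scheme.Hom.comp_apply, hξσ ⟨s, hs⟩, hsz]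
  haveI : IsIso (Sigma.desc σ) := (isIso_iff_isOpenImmersion_and_surjective _).2 ⟨inferInstance, inferInstance⟩
  refine ⟨FEt.fiberObj ξ W, inferInstance, (asIso (Sigma.desc σ)).symm, fun q => ?_⟩
  show Sigma.ι (fun _ : FEt.fiberObj ξ W => X) q ≫ Sigma.desc σ ≫ W.hom = 𝟙 X
  rw [Sigma.ι_desc_assoc, hσ]

/-- Products of proper simply connected schemes over an algebraically closed field are simply connected. -/
theorem SC_pullback {k : Type u} [Field k] [IsAlgClosed k] {X Y : Scheme.{u}}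
    (pX : X ⟶ Spec (CommRingCat.of k)) (pY : Y ⟶ Spec (CommRingCat.of k)) [IsProper pX]
    [ConnectedSpace X] [IsLocallyNoetherian X] [IsLocallyNoetherian Y] [ConnectedSpace Y]
    (hX : SC X) (hY : SC Y) : SC (pullback pX pY) := by
  intro W hW
  haveI := hW
  let g : W.left ⟶ pullback pX pY := W.hom
  haveI : IsFinite g := W.prop.1
  haveI : Etale g := W.prop.2
  obtain ⟨X', Y', φ, hφ, hsurj⟩ := Product25.exists_product_dominates pX pY W
  obtain ⟨z, -⟩ := hsurj.surj (Classical.arbitrary W.left)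
  obtain ⟨K, _, _, s, hs⟩ := FEtEq25.exists_geomPoint (pullback.fst (X'.hom ≫ pX) (Y'.hom ≫ pY) z)
  obtain ⟨L, _, _, t, ht⟩ := FEtEq25.exists_geomPoint (pullback.snd (X'.hom ≫ pX) (Y'.hom ≫ pY) z)
  obtain ⟨sX, hsX, -⟩ := exists_section_of_SC hX X' (s ≫ X'.hom) ⟨s, rfl⟩
  obtain ⟨sY, hsY, -⟩ := exists_section_of_SC hY Y' (t ≫ Y'.hom) ⟨t, rfl⟩
  let σ : pullback pX pY ⟶ W.left :=
    pullback.map pX pY (X'.hom ≫ pX) (Y'.hom ≫ pY) sX sY (𝟙 _)
      (by rw [reassoc_of% hsX, Category.comp_id]) (by rw [reassoc_of% hsY, Category.comp_id]) ≫ φ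
  have hσ : σ ≫ g = 𝟙 _ := by
    show (_ ≫ φ) ≫ W.hom = 𝟙 _
    rw [Category.assoc, hφ]
    apply pullback.hom_ext
    · simp [hsX]
    · simp [hsY]
  haveI := IsQuot25.isOpenImmersion_section g σ hσ
  haveI : IsClosedImmersion σ := by
    haveI : IsClosedImmersion (σ ≫ g) := by rw [hσ]; infer_instance
    exact IsClosedImmersion.of_comp σ g
  haveI : Nonempty ↥(pullback pX pY) := ⟨W.hom (Classical.arbitrary W.left)⟩
  haveI : Surjective σ := ⟨fun w => (Set.eq_univ_iff_forall.1
    (IsClopen.eq_univ ⟨σ.isClosedEmbedding.isClosed_range, σ.isOpenEmbedding.isOpen_range⟩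
      (Set.range_nonempty _)) w :)⟩
  haveI : IsIso σ := (isIso_iff_isOpenImmersion_and_surjective _).2 ⟨inferInstance, inferInstance⟩
  have : g = inv σ := IsIso.eq_inv_of_hom_inv_id hσ
  show IsIso g
  rw [this]
  infer_instance

end Groth.Agent.SimplyConn25
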