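import Groth.Agent.Lib.SimplyConn25.Rational
import Groth.Agent.Lib.FEtLimit25.EtaleSection
import Groth.Agent.Lib.GeomRedRes4
import Groth.Agent.Lib.NormFin18.Field
import Groth.Agent.S0296
import Mathlib.LinearAlgebra.FreeModule.Finite.Matrix

/-!
Rational varieties are simply connected; unirational varieties have a universal cover
-/

set_option autoImplicit false
set_option linter.style.haveILetI false
set_option backward.isDefEq.respectTransparency false

universe u

open CategoryTheory CategoryTheory.Limits AlgebraicGeometry TopologicalSpace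

noncomputable section

namespace Groth.Agent.SimplyConn25

theorem essFiniteType_fractionRing (k : Type u) [Field k] (r : ℕ) :
    Algebra.EssFiniteType k (FractionRing (MvPolynomial (Fin r) k)) :=
  Algebra.EssFiniteType.comp k (MvPolynomial (Fin r) k) (FractionRing (MvPolynomial (Fin r) k))

theorem essFiniteType_comp_aux {k K F : Type u} [Field k] [Field K] [Field F] [Algebra k F]
    (h : Algebra.EssFiniteType k F) (a : k →+* K) (b : K →+* F) (hab : b.comp a = algebraMap k F) :
    b.EssFiniteType := by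
  letI : Algebra k K := a.toAlgebra
  letI : Algebra K F := b.toAlgebra
  haveI : IsScalarTower k K F := IsScalarTower.of_algebraMap_eq' hab.symm
  exact Algebra.EssFiniteType.of_comp k K F

theorem essFiniteType_of_comp {k : Type u} [Field k] {K : Type u} [Field K] (a : k →+* K) {r' : ℕ}
    (b : K →+* FractionRing (MvPolynomial (Fin r') k)) (r : ℕ) (hab : b.comp a =
      algebraMap k (FractionRing (MvPolynomial (Fin r') k))) : b.EssFiniteType :=
  essFiniteType_comp_aux (essFiniteType_fractionRing k r') a b hab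

/-- A proper normal scheme dominated birationally by affine space is simply connected. -/
theorem isSplit_of_rational {k : Type u} [Field k] [IsAlgClosed k] {X : Scheme.{u}}
    (sX : X ⟶ Spec (CommRingCat.of k)) [IsProper sX] [IsIntegral X] (hN : Pi1.IsNormalScheme X) (r : ℕ)
    (e : X.presheaf.stalk (genericPoint X) ≅ CommRingCat.of (FractionRing (MvPolynomial (Fin r) k)))
    (he : Spec.map e.hom ≫ X.fromSpecStalk (genericPoint X) ≫ sX =
      Spec.map (CommRingCat.ofHom (algebraMap k (FractionRing (MvPolynomial (Fin r) k)))))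
    (W : FEt.Cat X) : Pi1.IsSplit W := by
  haveI : LocallyOfFiniteType sX := inferInstance
  haveI : IsLocallyNoetherian X := LocallyOfFiniteType.isLocallyNoetherian sX
  let F := FractionRing (MvPolynomial (Fin r) k)
  let η := genericPoint X
  let b : Spec (CommRingCat.of F) ⟶ X := Spec.map e.hom ≫ X.fromSpecStalk η
  have hb : b ≫ sX = Spec.map (CommRingCat.ofHom (algebraMap k F)) := by rw [Category.assoc, he]
  haveI : IsIso (X.residue η) := by
    rw [ConcreteCategory.isIso_iff_bijective]
    refine ⟨?_, IsLocalRing.residue_surjective⟩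
    letI : Field (X.presheaf.stalk η) := inferInstanceAs (Field X.functionField)
    exact RingHom.injective (X.residue η).hom
  let δ : CommRingCat.of F ⟶ X.residueField η := e.inv ≫ X.residue η
  haveI : IsIso δ := inferInstance
  have hδ : Spec.map δ ≫ b = X.fromSpecResidueField η := by
    show Spec.map (e.inv ≫ X.residue η) ≫ Spec.map e.hom ≫ _ = Spec.map (X.residue η) ≫ _
    rw [← Spec.map_comp_assoc, Iso.hom_inv_id_assoc]
  let Ω := AlgebraicClosure F
  let ω : Spec (CommRingCat.of Ω) ⟶ Spec (CommRingCat.of F) :=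
    Spec.map (CommRingCat.ofHom (algebraMap F Ω))
  refine isSplit_of_sections W (ω ≫ b) fun q => ?_
  let g : W.left ⟶ X := W.hom
  haveI : IsFinite g := W.prop.1
  haveI : Etale g := W.prop.2
  haveI : Surjective g := ⟨fun x => by
    have h := (FEtEq25.isClopen_image g isClopen_univ).eq_univ
      ⟨g (q.1 (IsLocalRing.closedPoint Ω)), _, Set.mem_univ _, rfl⟩
    obtain ⟨z, -, hz⟩ := Set.eq_univ_iff_forall.1 h x
    exact ⟨z, hz⟩⟩
  obtain ⟨x, hx, hxq⟩ := exists_point_lift sX r b hb W ω q
  obtain ⟨σ, hσ, hσx⟩ := FEtLimit25.exists_section hN g (fun {T} w _ z => by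
      refine ⟨⊤, trivial, isClosed_univ, ?_⟩
      haveI : IsFinite (pullback.snd g w) := MorphismProperty.pullback_snd _ _ ‹IsFinite g›
      haveI : IsIso (⊤ : (pullback g w).Opens).ι := inferInstanceAs (IsIso (pullback g w).topIso.hom)
      infer_instance)
    (Spec.map δ ≫ x) (by rw [Category.assoc, hx, hδ])
  refine ⟨σ, hσ, ?_⟩
  have h2 : inv (Spec.map δ) ≫ X.fromSpecResidueField η = b := by rw [IsIso.inv_comp_eq, hδ]
  refine (congrArg (fun m => (ω ≫ m) ≫ σ) h2.symm).trans ?_
  simp only [Category.assoc]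
  rw [hσx, IsIso.inv_hom_id_assoc, hxq]

/-- Degree of the relative algebraic closure of a field embedding. -/
def degBound {K F : Type u} [Field K] [Field F] (b : K →+* F) : ℕ :=
  letI := b.toAlgebra
  Module.finrank K (algebraicClosure K F)

/-- Bound on a geometric fibre all of whose points lie at one point and are defined over `F`. -/
theorem card_fiber_le {X : Scheme.{u}} (W : FEt.Cat X) (η : X) (w : W.left) (hw : W.hom w = η)
    {F Ω : Type u} [Field F] [Field Ω] (β : X.residueField η ⟶ CommRingCat.of F)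
    (ω : Spec (CommRingCat.of Ω) ⟶ Spec (CommRingCat.of F))
    (hF : β.hom.EssFiniteType)
    (hlift : ∀ q : FEt.fiberObj (ω ≫ Spec.map β ≫ X.fromSpecResidueField η) W,
      ∃ x : Spec (CommRingCat.of F) ⟶ W.left,
        x ≫ W.hom = Spec.map β ≫ X.fromSpecResidueField η ∧ ω ≫ x = q.1 ∧ ∀ z, x z = w) :
    Nat.card (FEt.fiberObj (ω ≫ Spec.map β ≫ X.fromSpecResidueField η) W) ≤ degBound β.hom := by
  subst hw
  unfold degBound
  let g : W.left ⟶ X := W.hom
  haveI : IsFinite g := W.prop.1
  haveI : Etale g := W.prop.2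
  letI : Algebra (X.residueField (g w)) F := β.hom.toAlgebra
  letI : Algebra (X.residueField (g w)) (W.left.residueField w) := (g.residueFieldMap w).hom.toAlgebra
  haveI : Algebra.EssFiniteType (X.residueField (g w)) F := hF
  haveI : Algebra.IsSeparable (X.residueField (g w)) (W.left.residueField w) :=
    inferInstanceAs (Algebra.IsSeparable (X.residueField (g.base w)) (W.left.residueField w))
  haveI : Module.Finite (X.residueField (g w)) (algebraicClosure (X.residueField (g w)) F) :=
    NormFin18.finite_algebraicClosure _ _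
  let ωh : CommRingCat.of F ⟶ CommRingCat.of Ω := Spec.preimage ω
  letI : Algebra (X.residueField (g w)) Ω := (ωh.hom.comp β.hom).toAlgebra
  choose x hx hxq hxw using hlift
  -- the embedding of the residue field
  have hemb : ∀ q, ∃ h : W.left.residueField w →ₐ[X.residueField (g w)] F,
      x q = Spec.map (CommRingCat.ofHom h.toRingHom) ≫ W.left.fromSpecResidueField w := by
    intro q
    obtain ⟨⟨w', h⟩, hh⟩ := (Scheme.SpecToEquivOfField F W.left).symm.surjective (x q)
    have hx' : Spec.map h ≫ W.left.fromSpecResidueField w' = x q := hh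
    have hw' : w' = w := by
      rw [← hxw q (IsLocalRing.closedPoint F), ← hx', Scheme.Hom.comp_apply]
      exact (Scheme.fromSpecResidueField_apply w' _).symm
    subst hw'
    have hc : g.residueFieldMap w' ≫ h = β := by
      apply Spec.map_injective
      rw [← cancel_mono (X.fromSpecResidueField (g w')), Spec.map_comp, Category.assoc,
        Scheme.Hom.SpecMap_residueFieldMap_fromSpecResidueField, ← Category.assoc, hx']
      exact hx q
    exact ⟨{ h.hom with commutes' := fun r => congrArg (fun m => m.hom r) hc }, hx'.symm⟩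
  choose h hh using hemb
  let ι : (q : _) → (W.left.residueField w →ₐ[X.residueField (g w)] Ω) := fun q =>
    (({ ωh.hom with commutes' := fun r => rfl } : F →ₐ[X.residueField (g w)] Ω)).comp (h q)
  have hι : Function.Injective ι := by
    intro q q' hqq'
    have h1 : ∀ q, q.1 = Spec.map (CommRingCat.ofHom (ι q).toRingHom) ≫ W.left.fromSpecResidueField w :=
      fun q => by
        rw [← hxq q, hh q, ← Category.assoc, ← Spec.map_preimage ω, ← Spec.map_comp]
        rfl
    exact Subtype.ext ((h1 q).trans ((by rw [hqq'] : _ = _).trans (h1 q').symm))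
  rcases isEmpty_or_nonempty (FEt.fiberObj (ω ≫ Spec.map β ≫ X.fromSpecResidueField (W.hom w)) W) with
    hempty | ⟨⟨h₀⟩⟩
  · exact Nat.card_of_isEmpty.trans_le (Nat.zero_le _)
  let emb : W.left.residueField w →ₐ[X.residueField (g w)] algebraicClosure (X.residueField (g w)) F :=
    (h h₀).codRestrict (algebraicClosure (X.residueField (g w)) F).toSubalgebra fun y =>
      (mem_algebraicClosure_iff.2 ((Algebra.IsAlgebraic.isAlgebraic (R := X.residueField (g w)) y).algHom (h h₀)))
  haveI : Module.Finite (X.residueField (g w)) (W.left.residueField w) :=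
    Module.Finite.of_injective emb.toLinearMap (RingHom.injective emb.toRingHom)
  exact (Nat.card_le_card_of_injective ι hι).trans
    ((card_algHom_le_finrank _ _ _).trans
      (LinearMap.finrank_le_finrank_of_injective (f := emb.toLinearMap) (RingHom.injective emb.toRingHom)))

/-- A proper normal unirational scheme has a universal cover. -/
theorem exists_universal_of_unirational {k : Type u} [Field k] [IsAlgClosed k] {X : Scheme.{u}}
    (sX : X ⟶ Spec (CommRingCat.of k)) [IsProper sX] [IsIntegral X] (hN : Pi1.IsNormalScheme X) (r : ℕ)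
    (e : X.presheaf.stalk (genericPoint X) ⟶ CommRingCat.of (FractionRing (MvPolynomial (Fin r) k)))
    (he : Spec.map e ≫ X.fromSpecStalk (genericPoint X) ≫ sX =
      Spec.map (CommRingCat.ofHom (algebraMap k (FractionRing (MvPolynomial (Fin r) k))))) :
    ∃ Z₀ : FEt.Cat X, ConnectedSpace Z₀.left ∧ ∀ Z : FEt.Cat X, ConnectedSpace Z.left → Nonempty (Z₀ ⟶ Z) := by
  classical
  haveI : LocallyOfFiniteType sX := inferInstance
  haveI : IsLocallyNoetherian X := LocallyOfFiniteType.isLocallyNoetherian sX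
  let F := FractionRing (MvPolynomial (Fin r) k)
  let η := genericPoint X
  letI : Field (X.presheaf.stalk η) := inferInstanceAs (Field X.functionField)
  haveI : IsIso (X.residue η) := by
    rw [ConcreteCategory.isIso_iff_bijective]
    exact ⟨RingHom.injective (X.residue η).hom, IsLocalRing.residue_surjective⟩
  let β : X.residueField η ⟶ CommRingCat.of F := inv (X.residue η) ≫ e
  let b : Spec (CommRingCat.of F) ⟶ X := Spec.map β ≫ X.fromSpecResidueField η
  have hb : b ≫ sX = Spec.map (CommRingCat.ofHom (algebraMap k F)) := by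
    show (Spec.map (inv (X.residue η) ≫ e) ≫ Spec.map (X.residue η) ≫ X.fromSpecStalk η) ≫ sX = _
    rw [← Spec.map_comp_assoc, IsIso.hom_inv_id_assoc, Category.assoc, he]
  let κ₀ : CommRingCat.of k ⟶ X.residueField η := Spec.preimage (X.fromSpecResidueField η ≫ sX)
  have hκ₀ : κ₀ ≫ β = CommRingCat.ofHom (algebraMap k F) := by
    apply Spec.map_injective
    rw [Spec.map_comp, Spec.map_preimage, ← hb, Category.assoc]
  have hess : β.hom.EssFiniteType := essFiniteType_of_comp κ₀.hom β.hom r (congrArg CommRingCat.Hom.hom hκ₀)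
  let Ω := AlgebraicClosure F
  let ω : Spec (CommRingCat.of Ω) ⟶ Spec (CommRingCat.of F) :=
    Spec.map (CommRingCat.ofHom (algebraMap F Ω))
  let ξ := ω ≫ Spec.map β ≫ X.fromSpecResidueField η
  let N := degBound β.hom
  -- a point of a fibre of a connected cover
  have hpt : ∀ Z : FEt.Cat X, ConnectedSpace Z.left → Nonempty (FEt.fiberObj ξ Z) := by
    intro Z hZ
    let g : Z.left ⟶ X := Z.hom
    haveI : IsFinite g := Z.prop.1
    haveI : Etale g := Z.prop.2
    obtain ⟨z, -, hz⟩ := Set.eq_univ_iff_forall.1 ((FEtEq25.isClopen_image g isClopen_univ).eq_univ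
      ⟨g (Classical.arbitrary Z.left), _, Set.mem_univ _, rfl⟩) (ξ (IsLocalRing.closedPoint Ω))
    obtain ⟨s, hs, -⟩ := FEtEq25.exists_fiber_point ξ g z hz
    exact ⟨⟨s, hs⟩⟩
  -- the bound
  have hbound : ∀ Z : FEt.Cat X, ConnectedSpace Z.left → Nat.card (FEt.fiberObj ξ Z) ≤ N := by
    intro Z hZ
    let g : Z.left ⟶ X := Z.hom
    haveI : IsFinite g := Z.prop.1
    haveI : Etale g := Z.prop.2
    have hd := FEtLimit25.isDomain_stalk_of_etale g hN
    obtain ⟨q₀⟩ := hpt Z hZ
    let w₀ : Z.left := Disc25.gen hd (q₀.1 (IsLocalRing.closedPoint Ω))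
    have hgen : ∀ z : Z.left, Disc25.gen hd z = w₀ := fun z => by
      have hA := (FEtLimit25.isClopen_preimage_gen hd g ({w₀} : Set Z.left)).eq_univ
        ⟨q₀.1 (IsLocalRing.closedPoint Ω), rfl⟩
      exact Set.eq_univ_iff_forall.1 hA z
    have hbη : ∀ z, b z = η := fun z => by
      rw [Scheme.Hom.comp_apply]; exact Scheme.fromSpecResidueField_apply η _
    refine card_fiber_le Z η w₀ ?_ β ω hess fun q => ?_
    · exact Disc25.map_gen hd g _
    obtain ⟨x, hx, hxq⟩ := exists_point_lift sX r b hb Z ω q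
    refine ⟨x, hx, hxq, fun z => ?_⟩
    rw [← hgen (x z)]
    refine ((g.isDiscrete_preimage_singleton η).eq_of_specializes (Disc25.gen_specializes hd (x z))
      (Disc25.map_gen hd g _) ?_).symm
    show g (x z) = η
    rw [← Scheme.Hom.comp_apply]
    exact (congrArg (fun m : _ ⟶ X => m z) hx).trans (hbη z)
  haveI hid : ConnectedSpace (MorphismProperty.Over.mk (P := FEt.prop.{u}) ⊤ (𝟙 X) ⟨inferInstance, inferInstance⟩).left :=
    inferInstanceAs (ConnectedSpace X)
  let P : ℕ → Prop := fun n => ∃ Z : FEt.Cat X, ConnectedSpace Z.left ∧ Nat.card (FEt.fiberObj ξ Z) = n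
  have hP : ∃ n, n ≤ N ∧ P n := ⟨_, hbound _ hid, _, hid, rfl⟩
  obtain ⟨n, hn, ⟨Z₀, hZ₀, hcard⟩⟩ : ∃ n, n ≤ N ∧ P n := hP
  obtain ⟨Z₀, hZ₀, hmax⟩ : ∃ Z₀ : FEt.Cat X, ConnectedSpace Z₀.left ∧
      ∀ Z : FEt.Cat X, ConnectedSpace Z.left →
        Nat.card (FEt.fiberObj ξ Z) ≤ Nat.card (FEt.fiberObj ξ Z₀) := by
    obtain ⟨m, hm⟩ : ∃ m, m = Nat.findGreatest P N := ⟨_, rfl⟩
    obtain ⟨Z₁, hZ₁, hc₁⟩ : P m := hm ▸ Nat.findGreatest_spec hn ⟨Z₀, hZ₀, hcard⟩
    exact ⟨Z₁, hZ₁, fun Z hZ => hc₁ ▸ hm ▸ Nat.le_findGreatest (hbound Z hZ) ⟨Z, hZ, rfl⟩⟩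
  refine ⟨Z₀, hZ₀, fun Z hZ => ?_⟩
  haveI := hZ₀
  obtain ⟨p⟩ := hpt Z₀ hZ₀
  obtain ⟨s⟩ := hpt Z hZ
  obtain ⟨C, hC, p', hdom⟩ := Family25.exists_dominating ξ [⟨Z₀, p⟩, ⟨Z, s⟩]
  obtain ⟨φ, -⟩ := hdom ⟨Z₀, p⟩ (by simp)
  obtain ⟨ψ, -⟩ := hdom ⟨Z, s⟩ (by simp)
  haveI := hC
  haveI : Surjective φ.left := by
    refine ⟨fun z => ?_⟩
    obtain ⟨c, -, hc⟩ := Set.eq_univ_iff_forall.1 ((FEtEq25.isClopen_image φ.left isClopen_univ).eq_univ
      ⟨φ.left (Classical.arbitrary C.left), _, Set.mem_univ _, rfl⟩) z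
    exact ⟨c, hc⟩
  have hbij : ∀ (K : Type u) [Field K] [IsAlgClosed K] (ξ' : Spec (CommRingCat.of K) ⟶ X),
      Function.Bijective ((FEt.fiber ξ').map φ) := by
    intro K _ _ ξ'
    have hs : Function.Surjective ((FEt.fiber ξ').map φ) := fun t => by
      obtain ⟨c, hc⟩ := φ.left.surjective (t.1 (IsLocalRing.closedPoint K))
      obtain ⟨c', hc', -⟩ := FEtEq25.exists_fiber_point t.1 φ.left c hc
      refine ⟨⟨c', ?_⟩, Subtype.ext hc'⟩
      rw [← FEtEq25.w φ, ← Category.assoc, hc', t.2]
    obtain ⟨ε⟩ := Groth.Agent.S0296.result ξ' ξ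
    haveI : Finite ((FEt.fiber ξ').obj C) := FEtEq25.finite_fiberObj ξ' C
    refine hs.bijective_of_nat_card_le ?_
    rw [Nat.card_congr (ε.app C).toEquiv, Nat.card_congr (ε.app Z₀).toEquiv]
    exact hmax C hC
  haveI := FEtEq25.isIso_of_bijective_fibres φ hbij
  exact ⟨inv φ ≫ ψ⟩

end Groth.Agent.SimplyConn25
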