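import Groth.Agent.Lib.SimplyConn25.Basic
import Groth.Agent.Lib.ProjSpace.Basic
import Groth.Agent.Lib.RegExt.P1
import Groth.Agent.S7810
import Mathlib.RingTheory.TensorProduct.MvPolynomial

/-!
A proper smooth simply connected compactification of affine space
-/

set_option autoImplicit false
set_option linter.style.haveILetI false
set_option backward.isDefEq.respectTransparency false

universe u

open CategoryTheory CategoryTheory.Limits AlgebraicGeometry TopologicalSpace
open scoped TensorProduct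

noncomputable section

namespace Groth.Agent.SimplyConn25

variable (k : Type u) [Field k]

theorem SC_P1 [IsAlgClosed k] : SC (CohB1.ProjSpace 1 k) := by
  intro W hW
  haveI := hW
  let g : W.left ⟶ CohB1.ProjSpace 1 k := W.hom
  haveI : IsFinite g := W.prop.1
  haveI : Etale g := W.prop.2
  haveI := ProjSpace.isProper_toSpec 1 k
  haveI := AlgClosedExt25.geometricallyConnected_of_connected (g ≫ CohB1.ProjSpace.toSpec 1 k)
  exact Groth.Agent.S7810.result k g

theorem SC_Spec [IsAlgClosed k] : SC (Spec (CommRingCat.of k)) := by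
  intro W hW
  haveI := hW
  let g : W.left ⟶ Spec (CommRingCat.of k) := W.hom
  haveI : IsFinite g := W.prop.1
  haveI : Etale g := W.prop.2
  haveI : Subsingleton ↥(Spec (CommRingCat.of k)) := inferInstanceAs (Subsingleton (PrimeSpectrum k))
  obtain ⟨w⟩ := (inferInstance : Nonempty W.left)
  obtain ⟨s, hs, -⟩ := FEtEq25.exists_fiber_point (𝟙 (Spec (CommRingCat.of k))) g w (Subsingleton.elim _ _)
  haveI := IsQuot25.isOpenImmersion_section g s hs
  haveI : IsClosedImmersion s := by
    haveI : IsClosedImmersion (s ≫ g) := by rw [hs]; infer_instance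
    exact IsClosedImmersion.of_comp s g
  haveI : Surjective s := ⟨fun x => (Set.eq_univ_iff_forall.1
    (IsClopen.eq_univ ⟨s.isClosedEmbedding.isClosed_range, s.isOpenEmbedding.isOpen_range⟩
      (Set.range_nonempty _)) x :)⟩
  haveI : IsIso s := (isIso_iff_isOpenImmersion_and_surjective _).2 ⟨inferInstance, inferInstance⟩
  have : g = inv s := IsIso.eq_inv_of_hom_inv_id hs
  show IsIso g
  rw [this]
  infer_instance

theorem nonempty_tensor_poly (σ : Type) (S : Type u) [CommRing S] [Algebra k S] :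
    Nonempty (S ⊗[k] MvPolynomial σ k ≃ₐ[k] MvPolynomial σ S) :=
  ⟨AlgEquiv.ofRingEquiv (f := (MvPolynomial.algebraTensorAlgEquiv (σ := σ) k S).toRingEquiv) fun x =>
    (MvPolynomial.algebraTensorAlgEquiv (σ := σ) k S).commutes (algebraMap k S x)⟩

theorem nonempty_tensor_equiv (r : ℕ) :
    Nonempty (MvPolynomial (Fin r) k ⊗[k] MvPolynomial {i : Fin 2 // i ≠ (0 : Fin 2)} k ≃ₐ[k]
      MvPolynomial (Fin (r + 1)) k) := by
  have hc : Fintype.card ({i : Fin 2 // i ≠ (0 : Fin 2)} ⊕ Fin r) = r + 1 := by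
    simp [Fintype.card_sum, add_comm]
  obtain ⟨e₁⟩ := nonempty_tensor_poly k {i : Fin 2 // i ≠ (0 : Fin 2)} (MvPolynomial (Fin r) k)
  let e₂ : MvPolynomial {i : Fin 2 // i ≠ (0 : Fin 2)} (MvPolynomial (Fin r) k) ≃ₐ[k]
      MvPolynomial ({i : Fin 2 // i ≠ (0 : Fin 2)} ⊕ Fin r) k :=
    (MvPolynomial.sumAlgEquiv k {i : Fin 2 // i ≠ (0 : Fin 2)} (Fin r)).symm
  exact ⟨(e₁.trans e₂).trans (MvPolynomial.renameEquiv k (Fintype.equivFinOfCardEq hc))⟩

/-- A proper smooth simply connected compactification of affine `r`-space. -/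
theorem exists_compactification [IsAlgClosed k] (r : ℕ) :
    ∃ (Y : Scheme.{u}) (pY : Y ⟶ Spec (CommRingCat.of k))
      (j : Spec (CommRingCat.of (MvPolynomial (Fin r) k)) ⟶ Y),
      IsProper pY ∧ Smooth pY ∧ ConnectedSpace Y ∧ SC Y ∧ IsOpenImmersion j ∧
      j ≫ pY = Spec.map (CommRingCat.ofHom MvPolynomial.C) := by
  induction r with
  | zero =>
    let e : CommRingCat.of k ≅ CommRingCat.of (MvPolynomial (Fin 0) k) :=
      (MvPolynomial.isEmptyRingEquiv k (Fin 0)).symm.toCommRingCatIso
    refine ⟨Spec (CommRingCat.of k), 𝟙 _, Spec.map e.hom, inferInstance, inferInstance,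
      inferInstanceAs (ConnectedSpace (PrimeSpectrum k)), SC_Spec k, inferInstance, ?_⟩
    rw [Category.comp_id]
    congr 1
  | succ r ih =>
    obtain ⟨Y, pY, j, hp, hs, hc, hsc, hj, hjp⟩ := ih
    haveI := hp
    haveI := hs
    haveI := hc
    haveI := hj
    haveI : IsLocallyNoetherian Y := LocallyOfFiniteType.isLocallyNoetherian pY
    haveI := RegExt.isIntegral_projSpace 1 k
    haveI : IsProper (CohB1.ProjSpace.toSpec 1 k) := ProjSpace.isProper_toSpec 1 k
    haveI : IsLocallyNoetherian (CohB1.ProjSpace 1 k) :=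
      LocallyOfFiniteType.isLocallyNoetherian (CohB1.ProjSpace.toSpec 1 k)
    haveI : SmoothOfRelativeDimension 1 (CohB1.ProjSpace.toSpec 1 k) :=
      ProjSpace.smoothOfRelativeDimension_toSpec 1 k
    haveI : Smooth (CohB1.ProjSpace.toSpec 1 k) := SmoothOfRelativeDimension.smooth 1 _
    let q := CohB1.ProjSpace.toSpec 1 k
    let σ₁ := {i : Fin 2 // i ≠ (0 : Fin 2)}
    let S := MvPolynomial (Fin r) k
    let T := MvPolynomial σ₁ k
    obtain ⟨ε⟩ := nonempty_tensor_equiv k r
    let E : Spec (CommRingCat.of (MvPolynomial (Fin (r + 1)) k)) ⟶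
        Spec (CommRingCat.of (S ⊗[k] T)) := Spec.map (ε.toRingEquiv.toCommRingCatIso).hom
    let φS : Spec (CommRingCat.of S) ⟶ Spec (CommRingCat.of k) :=
      Spec.map (CommRingCat.ofHom (algebraMap k S))
    let φT : Spec (CommRingCat.of T) ⟶ Spec (CommRingCat.of k) :=
      Spec.map (CommRingCat.ofHom (algebraMap k T))
    have h1 : φS ≫ 𝟙 _ = j ≫ pY := by rw [Category.comp_id, hjp]; rfl
    have h2 : φT ≫ 𝟙 _ = ProjSpace.chart 1 k 0 ≫ q := by
      rw [Category.comp_id, ProjSpace.chart_toSpec]; rfl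
    let J := pullback.map φS φT pY q j (ProjSpace.chart 1 k 0) (𝟙 _) h1 h2
    refine ⟨pullback pY q, pullback.fst pY q ≫ pY, E ≫ (pullbackSpecIso k S T).inv ≫ J,
      inferInstance, inferInstance, Product25.connectedSpace_product pY q,
      SC_pullback pY q hsc (SC_P1 k), inferInstance, ?_⟩
    rw [Category.assoc, Category.assoc, show J ≫ pullback.fst pY q ≫ pY =
      pullback.fst φS φT ≫ φS by
        show pullback.map φS φT pY q _ _ _ h1 h2 ≫ _ = _
        rw [pullback.map, pullback.lift_fst_assoc, Category.assoc, ← h1, Category.comp_id],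
      ← Category.assoc (pullbackSpecIso k S T).inv, pullbackSpecIso_inv_fst, ← Spec.map_comp,
      ← Spec.map_comp]
    congr 1
    apply CommRingCat.hom_ext
    refine RingHom.ext fun x => ?_
    show ε ((algebraMap k S x) ⊗ₜ[k] (1 : T)) = MvPolynomial.C x
    exact ε.commutes x

end Groth.Agent.SimplyConn25
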