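import Groth.Agent.Lib.SimplyConn25.Products
import Groth.Agent.Lib.PurityExt25.Birational
import Groth.Agent.Lib.Pur25.Square
import Groth.Agent.Lib.VB17.Setup
import Groth.Agent.Lib.RegLoc.Basic
import Groth.Agent.S1535
import Mathlib.AlgebraicGeometry.FunctionField
import Mathlib.AlgebraicGeometry.SpreadingOut

/-!
Covers of a proper scheme over purely transcendental points
-/

set_option autoImplicit false
set_option linter.style.haveILetI false
set_option backward.isDefEq.respectTransparency false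

universe u

open CategoryTheory CategoryTheory.Limits AlgebraicGeometry TopologicalSpace

noncomputable section

namespace Groth.Agent.SimplyConn25

/-- Lifting along a simply connected compactification of `Spec R`. -/
theorem exists_point_lift_of_model {k : Type u} [Field k] [IsAlgClosed k] {X Y : Scheme.{u}}
    (sX : X ⟶ Spec (CommRingCat.of k)) [IsProper sX] (pY : Y ⟶ Spec (CommRingCat.of k)) [IsProper pY]
    [Smooth pY] [ConnectedSpace Y] (hsc : SC Y) (R : CommRingCat.{u}) [IsDomain R] (c : k →+* R)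
    (j : Spec R ⟶ Y) [IsOpenImmersion j] (hjp : j ≫ pY = Spec.map (CommRingCat.ofHom c))
    (F : Type u) [Field F] [Algebra k F] [Algebra R F] [IsFractionRing R F]
    (hcF : ∀ x, algebraMap R F (c x) = algebraMap k F x)
    (b : Spec (CommRingCat.of F) ⟶ X)
    (hb : b ≫ sX = Spec.map (CommRingCat.ofHom (algebraMap k F)))
    (W : FEt.Cat X) {Ω : Type u} [Field Ω] [IsAlgClosed Ω]
    (ω : Spec (CommRingCat.of Ω) ⟶ Spec (CommRingCat.of F)) (q : FEt.fiberObj (ω ≫ b) W) :
    ∃ x : Spec (CommRingCat.of F) ⟶ W.left, x ≫ W.hom = b ∧ ω ≫ x = q.1 := by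
  letI : Y.Over (Spec (CommRingCat.of k)) := ⟨pY⟩
  haveI : Smooth (Y ↘ Spec (CommRingCat.of k)) := ‹Smooth pY›
  haveI : IsLocallyNoetherian Y := LocallyOfFiniteType.isLocallyNoetherian pY
  have hreg : ∀ y : Y, IsRegularLocalRing (Y.presheaf.stalk y) := fun y => Groth.Agent.S1535.result k Y y
  haveI : CompactSpace Y := QuasiCompact.compactSpace_of_compactSpace pY
  haveI : IsNoetherian Y := { }
  haveI : IsIntegral Y := VB17.isIntegral_of_connected fun y => by
    haveI := hreg y
    exact RegLoc.isDomain _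
  haveI : IsIntegral (Spec R) := inferInstance
  let εF : (Spec R).functionField ≃ₐ[R] F := IsLocalization.algEquiv (nonZeroDivisors R) (Spec R).functionField F
  let E : Spec (Spec R).functionField ⟶ Spec (CommRingCat.of F) :=
    Spec.map (CommRingCat.ofHom εF.symm.toRingEquiv.toRingHom)
  have hstalk : (Spec R).fromSpecStalk (genericPoint (Spec R)) = Spec.map (CommRingCat.ofHom (algebraMap R (Spec R).functionField)) :=
    Spec.fromSpecStalk_eq' _ _
  have hE : (E ≫ b) ≫ sX = (Spec R).fromSpecStalk (genericPoint (Spec R)) ≫ j ≫ pY := by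
    rw [Category.assoc, hb, hstalk, hjp, ← Spec.map_comp, ← Spec.map_comp]
    congr 1
    apply CommRingCat.hom_ext
    refine RingHom.ext fun x => ?_
    show εF.symm (algebraMap k F x) = algebraMap R (Spec R).functionField (c x)
    rw [← hcF]
    exact εF.symm.commutes (c x)
  obtain ⟨V₀, hV₀, f, hf, hfsX⟩ := spread_out_of_isGermInjective' (j ≫ pY) sX (x := genericPoint (Spec R)) (E ≫ b) hE
  let V : Y.Opens := j ''ᵁ V₀
  let iV : (V : Scheme.{u}) ⟶ (V₀ : Scheme.{u}) := IsOpenImmersion.lift (V₀.ι ≫ j) V.ι (by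
    rw [Scheme.Opens.range_ι, ← Scheme.Hom.coe_opensRange, Scheme.Hom.opensRange_comp,
      Scheme.Opens.opensRange_ι])
  have hiV : iV ≫ V₀.ι ≫ j = V.ι := IsOpenImmersion.lift_fac _ _ _
  let e : (V : Scheme.{u}) ⟶ X := iV ≫ f
  have he : e ≫ sX = V.ι ≫ pY := by
    rw [Category.assoc, hfsX, ← hiV, Category.assoc, Category.assoc]
  have hVne : (V : Set Y).Nonempty := ⟨j (genericPoint (Spec R)), genericPoint (Spec R), hV₀, rfl⟩
  obtain ⟨W', ⟨eW⟩⟩ := PurityExt25.exists_extension_along_rational_map sX pY hreg V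
    (V.2.dense hVne) e he W
  let Einv : Spec (CommRingCat.of F) ⟶ Spec (Spec R).functionField :=
    Spec.map (CommRingCat.ofHom εF.toRingEquiv.toRingHom)
  have hEE : Einv ≫ E = 𝟙 _ := by
    rw [← Spec.map_comp, ← Spec.map_id]
    congr 1
    apply CommRingCat.hom_ext
    exact RingHom.ext fun x => εF.apply_symm_apply x
  let θ₀ : Spec (CommRingCat.of F) ⟶ (V₀ : Scheme.{u}) :=
    Einv ≫ V₀.fromSpecStalkOfMem (genericPoint (Spec R)) hV₀
  let θ : Spec (CommRingCat.of F) ⟶ (V : Scheme.{u}) :=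
    IsOpenImmersion.lift V.ι (θ₀ ≫ V₀.ι ≫ j) (by
      rw [Scheme.Opens.range_ι]
      rintro _ ⟨z, rfl⟩
      exact ⟨(θ₀ z).1, (θ₀ z).2, rfl⟩)
  have hθi : θ ≫ iV = θ₀ := by
    rw [← cancel_mono (V₀.ι ≫ j), Category.assoc, hiV, IsOpenImmersion.lift_fac]
  have hθe : θ ≫ e = b := by
    rw [← Category.assoc, hθi, Category.assoc, ← hf, ← Category.assoc, hEE, Category.id_comp]
  let ξV : Spec (CommRingCat.of Ω) ⟶ (V : Scheme.{u}) := ω ≫ θ
  let qe : FEt.fiberObj ξV ((FEt.restrict e).obj W) :=
    ((FEtEq25.restrictFiberIso e ξV).app W).inv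
      ⟨q.1, q.2.trans (by rw [Category.assoc, hθe])⟩
  let qV : FEt.fiberObj ξV ((FEt.restrict V.ι).obj W') := (FEt.fiber ξV).map eW.inv qe
  let qY : FEt.fiberObj (ξV ≫ V.ι) W' := ((FEtEq25.restrictFiberIso V.ι ξV).app W').hom qV
  obtain ⟨σ, hσ, hσq⟩ := exists_section_of_SC hsc W' (ξV ≫ V.ι) qY
  let sV : (V : Scheme.{u}) ⟶ ((FEt.restrict V.ι).obj W').left :=
    pullback.lift (V.ι ≫ σ) (𝟙 _) (by rw [Category.assoc, hσ, Category.comp_id, Category.id_comp])
  have hsV : ξV ≫ sV = qV.1 := by
    apply pullback.hom_ext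
    · rw [Category.assoc, pullback.lift_fst, ← Category.assoc, hσq]; rfl
    · rw [Category.assoc, pullback.lift_snd, Category.comp_id]; exact qV.2.symm
  refine ⟨θ ≫ sV ≫ eW.hom.left ≫ pullback.fst W.hom e, ?_, ?_⟩
  · rw [Category.assoc, Category.assoc, Category.assoc, pullback.condition]
    have h1 : eW.hom.left ≫ pullback.snd W.hom e = pullback.snd W'.hom V.ι := Over.w eW.hom.hom
    rw [reassoc_of% h1]
    show θ ≫ pullback.lift _ _ _ ≫ pullback.snd _ _ ≫ e = b
    rw [pullback.lift_snd_assoc, Category.id_comp, hθe]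
  · rw [← Category.assoc, ← Category.assoc ξV, hsV]
    have h2 : qV.1 ≫ eW.hom.left = qe.1 := by
      have h := congrArg (fun m => (FEt.fiber ξV).map m qe) eW.inv_hom_id
      simp only [FunctorToTypes.map_comp_apply, FunctorToTypes.map_id_apply] at h
      exact congrArg Subtype.val h
    rw [← Category.assoc, h2]
    exact pullback.lift_fst _ _ _

/-- Over a purely transcendental extension `F` of an algebraically closed field `k`, an `F`-point of a
proper `k`-scheme lifts to every geometric point above it of a finite étale cover. -/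
theorem exists_point_lift {k : Type u} [Field k] [IsAlgClosed k] {X : Scheme.{u}}
    (sX : X ⟶ Spec (CommRingCat.of k)) [IsProper sX] (r : ℕ)
    (b : Spec (CommRingCat.of (FractionRing (MvPolynomial (Fin r) k))) ⟶ X)
    (hb : b ≫ sX = Spec.map (CommRingCat.ofHom (algebraMap k (FractionRing (MvPolynomial (Fin r) k)))))
    (W : FEt.Cat X) {Ω : Type u} [Field Ω] [IsAlgClosed Ω]
    (ω : Spec (CommRingCat.of Ω) ⟶ Spec (CommRingCat.of (FractionRing (MvPolynomial (Fin r) k))))
    (q : FEt.fiberObj (ω ≫ b) W) :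
    ∃ x : Spec (CommRingCat.of (FractionRing (MvPolynomial (Fin r) k))) ⟶ W.left,
      x ≫ W.hom = b ∧ ω ≫ x = q.1 := by
  obtain ⟨Y, pY, j, hp, hs, hc, hsc, hj, hjp⟩ := exists_compactification k r
  exact exists_point_lift_of_model sX pY hsc (CommRingCat.of (MvPolynomial (Fin r) k))
    MvPolynomial.C j hjp (FractionRing (MvPolynomial (Fin r) k))
    (fun x => (IsScalarTower.algebraMap_apply k (MvPolynomial (Fin r) k)
      (FractionRing (MvPolynomial (Fin r) k)) x).symm) b hb W ω q

end Groth.Agent.SimplyConn25
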